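import Cfsg.Agent.OddHalf.Orders.Tool
import Cfsg.Agent.S0245
import Cfsg.Agent.S0246
import Cfsg.Prelude.Def_Classical

/-!
# Order engine: `PSp_2m(q)` (helper907)
-/

set_option autoImplicit false

namespace Cfsg.Agent.OddHalf.Orders

open Cfsg

/-- the order of `Sp_2m(q)` -/
def sp (m q : ℕ) : ℕ := q ^ (m ^ 2) * ((List.range m).map fun i => q ^ (2 * (i + 1)) - 1).prod

/-- the denominator -/
def spDen (q : ℕ) : ℕ := Nat.gcd 2 (q - 1)

theorem card_psp {F : Type*} [Field F] [Fintype F] (m : ℕ) (hm : 1 ≤ m) :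
    spDen (Fintype.card F) * Nat.card (PSp m F) = sp m (Fintype.card F) := by
  have h1 := Cfsg.Agent.S0245.result (F := F) rfl m
  have h2 := Cfsg.Agent.S0246.result (F := F) rfl m hm
  have h3 := Subgroup.card_eq_card_quotient_mul_card_subgroup
    (Subgroup.center (Matrix.symplecticGroup (Fin m) F))
  rw [prod_range_list] at h1
  rw [h1, h2] at h3
  rw [mul_comm]
  exact h3.symm

theorem le_sp {q : ℕ} (hq : 2 ≤ q) (m : ℕ) : q ^ (2 * m ^ 2) ≤ sp m q := by
  unfold sp
  rw [← prod_range_list, two_mul, pow_add]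
  exact Nat.mul_le_mul_left _ (pow_le_prod hq m)

theorem bound_psp {m q c : ℕ} (hq : 2 ≤ q) (h : spDen q * c = sp m q) :
    q ^ (2 * m ^ 2) ≤ 2 * c := by
  refine (le_sp hq m).trans ?_
  rw [← h]
  exact Nat.mul_le_mul_right _ (Nat.gcd_le_left _ (by norm_num))

theorem psp_box {m q c Q : ℕ} (hq : 2 ≤ q) (h : spDen q * c = sp m q)
    (h0 : 64561751654400 ∣ c) (hN : c ≤ 2044735236646502400)
    (hQ : 2 * 2044735236646502400 < Q ^ (2 * m ^ 2))
    (hall : allEx 64561751654400 2044735236646502400 (sp m) spDen Q = true) : False :=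
  no hall hq (lt_of_pow (bound_psp hq h) hN hQ) h h0 hN

theorem spChk2 : allEx 64561751654400 2044735236646502400 (sp 2) spDen 220 = true := by
  decide +kernel

theorem spChk3 : allEx 64561751654400 2044735236646502400 (sp 3) spDen 12 = true := by
  decide +kernel

theorem spChk4 : allEx 64561751654400 2044735236646502400 (sp 4) spDen 5 = true := by
  decide +kernel

theorem spChk5 : allEx 64561751654400 2044735236646502400 (sp 5) spDen 3 = true := by
  decide +kernel

theorem psp_nat {q m c : ℕ} (hq : 2 ≤ q) (hm : 2 ≤ m) (h : spDen q * c = sp m q)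
    (h0 : 64561751654400 ∣ c) (hN : c ≤ 2044735236646502400) : False := by
  by_cases h9 : 6 ≤ m
  · have h1 : q < 2 := lt_of_pow (bound_psp hq h) hN (by
      calc 2 * 2044735236646502400 < 2 ^ 72 := by norm_num
        _ ≤ 2 ^ (2 * m ^ 2) := Nat.pow_le_pow_right (by norm_num) (by nlinarith))
    omega
  · have : m = 2 ∨ m = 3 ∨ m = 4 ∨ m = 5 := by omega
    rcases this with rfl | rfl | rfl | rfl
    · exact psp_box hq h h0 hN (by norm_num) spChk2
    · exact psp_box hq h h0 hN (by norm_num) spChk3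
    · exact psp_box hq h h0 hN (by norm_num) spChk4
    · exact psp_box hq h h0 hN (by norm_num) spChk5

theorem psp_fi23 {X : Type*} [Group X] (hX : IsPSp X) (h0 : 64561751654400 ∣ Nat.card X)
    (hN : Nat.card X ≤ 2044735236646502400) : False := by
  obtain ⟨F, _, _, m, hm, -, ⟨e⟩⟩ := hX
  have h := card_psp (F := F) m (by omega)
  rw [← Nat.card_congr e.toEquiv] at h
  exact psp_nat Fintype.one_lt_card hm h h0 hN

end Cfsg.Agent.OddHalf.Orders
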