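import Cfsg.Agent.OddHalf.Orders.Tool
import Cfsg.Agent.S1059
import Cfsg.Agent.S1062
import Cfsg.Agent.S1063
import Cfsg.Agent.S1064
import Cfsg.Agent.S1065
import Cfsg.Agent.S1066
import Cfsg.Agent.S1067
import Cfsg.Agent.S1068
import Cfsg.Agent.S1069
import Cfsg.Agent.S1163
import Cfsg.Prelude.Def_LieChev
import Cfsg.Prelude.Def_LieTwisted

/-!
# Order engine: exceptional groups of Lie type, instance `(|Fi₂₂|, |Fi₂₃| / 2)` (helper907)
-/

set_option autoImplicit false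

namespace Cfsg.Agent.OddHalf.Orders

open Cfsg

def g2 (q : ℕ) : ℕ := q ^ 6 * (q ^ 2 - 1) * (q ^ 6 - 1)
def f4 (q : ℕ) : ℕ := q ^ 24 * (q ^ 2 - 1) * (q ^ 6 - 1) * (q ^ 8 - 1) * (q ^ 12 - 1)
def e6 (q : ℕ) : ℕ := q ^ 36 * (q ^ 2 - 1) * (q ^ 5 - 1) * (q ^ 6 - 1) * (q ^ 8 - 1) * (q ^ 9 - 1) * (q ^ 12 - 1)
def e6' (q : ℕ) : ℕ := q ^ 36 * (q ^ 2 - 1) * (q ^ 5 + 1) * (q ^ 6 - 1) * (q ^ 8 - 1) * (q ^ 9 + 1) * (q ^ 12 - 1)
def d4 (q : ℕ) : ℕ := q ^ 12 * (q ^ 2 - 1) * (q ^ 6 - 1) * (q ^ 8 + q ^ 4 + 1)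

theorem two_le_of_isPrimePow {q : ℕ} (h : IsPrimePow q) : 2 ≤ q := h.two_le

/-- a common form of the small bounds -/
theorem mul_pow_le {q a b x y : ℕ} (h1 : q ^ a ≤ x) (h2 : q ^ b ≤ y) : q ^ (a + b) ≤ x * y := by
  rw [pow_add]; exact Nat.mul_le_mul h1 h2

theorem le_g2 {q : ℕ} (hq : 2 ≤ q) : q ^ 12 ≤ g2 q :=
  mul_pow_le (mul_pow_le le_rfl (pow_le_sub hq 1)) (pow_le_sub hq 5)

theorem le_f4 {q : ℕ} (hq : 2 ≤ q) : q ^ 48 ≤ f4 q :=
  mul_pow_le (mul_pow_le (mul_pow_le (mul_pow_le le_rfl (pow_le_sub hq 1)) (pow_le_sub hq 5))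
    (pow_le_sub hq 7)) (pow_le_sub hq 11)

theorem le_e6 {q : ℕ} (hq : 2 ≤ q) : q ^ 72 ≤ e6 q :=
  mul_pow_le (mul_pow_le (mul_pow_le (mul_pow_le (mul_pow_le (mul_pow_le le_rfl (pow_le_sub hq 1))
    (pow_le_sub hq 4)) (pow_le_sub hq 5)) (pow_le_sub hq 7)) (pow_le_sub hq 8)) (pow_le_sub hq 11)

theorem le_e6' {q : ℕ} (hq : 2 ≤ q) : q ^ 74 ≤ e6' q :=
  mul_pow_le (mul_pow_le (mul_pow_le (mul_pow_le (mul_pow_le (mul_pow_le le_rfl (pow_le_sub hq 1))
    (pow_le_add q 5)) (pow_le_sub hq 5)) (pow_le_sub hq 7)) (pow_le_add q 9)) (pow_le_sub hq 11)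

theorem le_d4 {q : ℕ} (hq : 2 ≤ q) : q ^ 26 ≤ d4 q := by
  have h8 : q ^ 8 ≤ q ^ 8 + q ^ 4 + 1 := by omega
  exact mul_pow_le (mul_pow_le (mul_pow_le le_rfl (pow_le_sub hq 1)) (pow_le_sub hq 5)) h8

theorem g2Chk : allEx 64561751654400 2044735236646502400 g2 (fun _ => 1) 35 = true := by
  decide +kernel

theorem f4Chk : allEx 64561751654400 2044735236646502400 f4 (fun _ => 1) 3 = true := by
  decide +kernel

theorem d4Chk : allEx 64561751654400 2044735236646502400 d4 (fun _ => 1) 6 = true := by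
  decide +kernel

theorem g2_fi23 {X : Type*} [Group X] (hX : Lie.IsoChevG2 X) (h0 : 64561751654400 ∣ Nat.card X)
    (hN : Nat.card X ≤ 2044735236646502400) : False := by
  obtain ⟨F, _, _, -, ⟨e⟩⟩ := hX
  have h : Nat.card X = g2 (Fintype.card F) := (Nat.card_congr e.toEquiv).trans (S1059.result rfl)
  have hq : 2 ≤ Fintype.card F := Fintype.one_lt_card
  have h1 : 1 * Nat.card X = g2 (Fintype.card F) := by rw [one_mul, h]
  refine no g2Chk hq (lt_of_pow (d := 12) (D := 1) ?_ hN (by norm_num)) h1 h0 hN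
  rw [h1]; exact le_g2 hq

theorem f4_fi23 {X : Type*} [Group X] (hX : Lie.IsoF4 X) (h0 : 64561751654400 ∣ Nat.card X)
    (hN : Nat.card X ≤ 2044735236646502400) : False := by
  obtain ⟨F, _, _, ⟨e⟩⟩ := hX
  have h : Nat.card X = f4 (Fintype.card F) := (Nat.card_congr e.toEquiv).trans (S1062.result rfl)
  have hq : 2 ≤ Fintype.card F := Fintype.one_lt_card
  have h1 : 1 * Nat.card X = f4 (Fintype.card F) := by rw [one_mul, h]
  refine no f4Chk hq (lt_of_pow (d := 48) (D := 1) ?_ hN (by norm_num)) h1 h0 hN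
  rw [h1]; exact le_f4 hq

theorem big {q d D c N : ℕ} (hq : 2 ≤ q) (h1 : q ^ d ≤ D * c) (hN : c ≤ N) (h2 : D * N < 2 ^ d) : False := by
  have := lt_of_pow h1 hN h2
  omega

theorem e6_fi23 {X : Type*} [Group X] (hX : Lie.IsoChevE6 X)
    (hN : Nat.card X ≤ 2044735236646502400) : False := by
  obtain ⟨F, _, _, ⟨e⟩⟩ := hX
  have h := S1063.result (F := F) rfl
  rw [← Nat.card_congr e.toEquiv] at h
  have hq : 2 ≤ Fintype.card F := Fintype.one_lt_card
  refine big (D := 3) hq ((le_e6 hq).trans ?_) hN (by norm_num)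
  have : e6 (Fintype.card F) = Nat.gcd 3 (Fintype.card F - 1) * Nat.card X := h.symm
  rw [this]
  exact Nat.mul_le_mul_right _ (Nat.gcd_le_left _ (by norm_num))

theorem e7_fi23 {X : Type*} [Group X] (hX : Lie.IsoE7 X)
    (hN : Nat.card X ≤ 2044735236646502400) : False := by
  obtain ⟨F, _, _, ⟨e⟩⟩ := hX
  have h := S1064.result (F := F) rfl
  rw [← Nat.card_congr e.toEquiv] at h
  have hq : 2 ≤ Fintype.card F := Fintype.one_lt_card
  have h2 : Fintype.card F ^ 63 ≤ 2 * Nat.card X := by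
    have h3 : Nat.gcd 2 (Fintype.card F - 1) ≤ 2 := Nat.gcd_le_left _ (by norm_num)
    refine le_trans ?_ (Nat.mul_le_mul_right _ h3)
    rw [h]
    have hp : ∀ d, 1 ≤ Fintype.card F ^ (d + 1) - 1 := fun d =>
      (Nat.one_le_pow _ _ (by omega)).trans (pow_le_sub hq d)
    have := mul_pow_le (q := Fintype.card F) (mul_pow_le (mul_pow_le (mul_pow_le (mul_pow_le
      (mul_pow_le (mul_pow_le (le_refl (Fintype.card F ^ 63)) (b := 0) (hp 1)) (b := 0) (hp 5)) (b := 0) (hp 7))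
        (b := 0) (hp 9)) (b := 0) (hp 11)) (b := 0) (hp 13)) (b := 0) (hp 17)
    exact this
  exact big (d := 63) hq h2 hN (by norm_num)

theorem e8_fi23 {X : Type*} [Group X] (hX : Lie.IsoE8 X)
    (hN : Nat.card X ≤ 2044735236646502400) : False := by
  obtain ⟨F, _, _, ⟨e⟩⟩ := hX
  have h := S1065.result (F := F) rfl
  rw [← Nat.card_congr e.toEquiv] at h
  have hq : 2 ≤ Fintype.card F := Fintype.one_lt_card
  have h2 : Fintype.card F ^ 120 ≤ 1 * Nat.card X := by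
    rw [one_mul, h]
    have hp : ∀ d, 1 ≤ Fintype.card F ^ (d + 1) - 1 := fun d =>
      (Nat.one_le_pow _ _ (by omega)).trans (pow_le_sub hq d)
    have := mul_pow_le (q := Fintype.card F) (mul_pow_le (mul_pow_le (mul_pow_le (mul_pow_le (mul_pow_le
      (mul_pow_le (mul_pow_le (le_refl (Fintype.card F ^ 120)) (b := 0) (hp 1)) (b := 0) (hp 7)) (b := 0) (hp 11))
        (b := 0) (hp 13)) (b := 0) (hp 17)) (b := 0) (hp 19)) (b := 0) (hp 23)) (b := 0) (hp 29)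
    exact this
  exact big (d := 120) hq h2 hN (by norm_num)

theorem e26_fi23 {X : Type*} [Group X] (hX : Lie.Iso2E6 X)
    (hN : Nat.card X ≤ 2044735236646502400) : False := by
  obtain ⟨F, _, _, q, hpp, hF, ⟨e⟩⟩ := hX
  have h := S1066.result hpp hF
  rw [← Nat.card_congr e.toEquiv] at h
  have hq : 2 ≤ q := hpp.two_le
  refine big (D := 3) hq ((le_e6' hq).trans ?_) hN (by norm_num)
  have : e6' q = Nat.gcd 3 (q + 1) * Nat.card X := h.symm
  rw [this]
  exact Nat.mul_le_mul_right _ (Nat.gcd_le_left _ (by norm_num))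

theorem d4_fi23 {X : Type*} [Group X] (hX : Lie.Iso3D4 X) (h0 : 64561751654400 ∣ Nat.card X)
    (hN : Nat.card X ≤ 2044735236646502400) : False := by
  obtain ⟨F, _, _, q, hpp, hF, ⟨e⟩⟩ := hX
  have h : Nat.card X = d4 q := (Nat.card_congr e.toEquiv).trans (S1067.result hpp hF)
  have hq : 2 ≤ q := hpp.two_le
  have h1 : 1 * Nat.card X = d4 q := by rw [one_mul, h]
  refine no d4Chk hq (lt_of_pow (d := 26) (D := 1) ?_ hN (by norm_num)) h1 h0 hN
  rw [h1]; exact le_d4 hq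

/-! ### Suzuki and Ree groups -/

def sz (q : ℕ) : ℕ := q ^ 2 * (q - 1) * (q ^ 2 + 1)
def ree (q : ℕ) : ℕ := q ^ 3 * (q - 1) * (q ^ 3 + 1)
def f42 (q : ℕ) : ℕ := q ^ 12 * (q - 1) * (q ^ 3 + 1) * (q ^ 4 - 1) * (q ^ 6 + 1)

theorem all_of {n0 N : ℕ} {f : ℕ → ℕ} {Q k c : ℕ}
    (hall : ((List.range Q).all fun k => ex n0 N f (fun _ => 1) k) = true)
    (hQ : k < Q) (h : c = f k) (h0 : n0 ∣ c) (hN : c ≤ N) : False := by
  rw [List.all_eq_true] at hall
  have h1 := hall k (List.mem_range.2 hQ)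
  rw [ex_eq_false (c := c) (by rw [one_mul, h]) h0 hN] at h1
  exact absurd h1 (by decide)

theorem szChk : ((List.range 9).all fun k => ex 64561751654400 2044735236646502400
    (fun k => sz (2 ^ (2 * k + 1))) (fun _ => 1) k) = true := by
  decide +kernel

theorem reeChk : ((List.range 6).all fun k => ex 64561751654400 2044735236646502400
    (fun k => ree (3 ^ (2 * k + 1))) (fun _ => 1) k) = true := by
  decide +kernel

theorem f42Chk : ((List.range 2).all fun k => ex 64561751654400 2044735236646502400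
    (fun k => f42 (2 ^ (2 * k + 1))) (fun _ => 1) k) = true := by
  decide +kernel

theorem exp_lt {p q k Q d c N : ℕ} (hp : 2 ≤ p) (hk : q = p ^ (2 * k + 1)) (h : q ^ d ≤ c) (hN : c ≤ N)
    (h2 : N < (p ^ (2 * Q + 1)) ^ d) : k < Q := by
  by_contra hlt
  push Not at hlt
  have h3 : p ^ (2 * Q + 1) ≤ q := by
    rw [hk]; exact Nat.pow_le_pow_right (by omega) (by omega)
  have h4 := Nat.pow_le_pow_left h3 d
  omega

theorem sz_fi23 {X : Type*} [Group X] (hX : Lie.IsoSuzuki X) (h0 : 64561751654400 ∣ Nat.card X)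
    (hN : Nat.card X ≤ 2044735236646502400) : False := by
  obtain ⟨F, _, _, m, hm, hF, ⟨e⟩⟩ := hX
  have h : Nat.card X = sz (2 ^ (2 * m + 1)) :=
    (Nat.card_congr e.toEquiv).trans (S1163.result hm hF).1
  refine all_of szChk (k := m) ?_ h h0 hN
  have hq : 2 ≤ 2 ^ (2 * m + 1) := by
    calc 2 = 2 ^ 1 := rfl
      _ ≤ _ := Nat.pow_le_pow_right (by norm_num) (by omega)
  refine exp_lt (p := 2) (Q := 9) (d := 4) le_rfl rfl ?_ hN (by norm_num)
  rw [h]
  generalize 2 ^ (2 * m + 1) = q at hq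
  exact mul_pow_le (mul_pow_le (b := 0) le_rfl (by rw [pow_zero]; omega)) (pow_le_add q 2)

theorem ree_fi23 {X : Type*} [Group X] (hX : Lie.IsoRee X) (h0 : 64561751654400 ∣ Nat.card X)
    (hN : Nat.card X ≤ 2044735236646502400) : False := by
  obtain ⟨F, _, _, m, hm, hF, ⟨e⟩⟩ := hX
  have h : Nat.card X = ree (3 ^ (2 * m + 1)) :=
    (Nat.card_congr e.toEquiv).trans (S1069.result hF)
  refine all_of reeChk (k := m) ?_ h h0 hN
  have hq : 2 ≤ 3 ^ (2 * m + 1) := by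
    calc 2 ≤ 3 ^ 1 := by norm_num
      _ ≤ _ := Nat.pow_le_pow_right (by norm_num) (by omega)
  refine exp_lt (p := 3) (Q := 6) (d := 6) (by norm_num) rfl ?_ hN (by norm_num)
  rw [h]
  generalize 3 ^ (2 * m + 1) = q at hq
  exact mul_pow_le (mul_pow_le (b := 0) le_rfl (by rw [pow_zero]; omega)) (pow_le_add q 3)

theorem f42_fi23 {X : Type*} [Group X] (hX : Lie.Iso2F4 X) (h0 : 64561751654400 ∣ Nat.card X)
    (hN : Nat.card X ≤ 2044735236646502400) : False := by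
  obtain ⟨F, _, _, m, hm, hF, ⟨e⟩⟩ := hX
  have h : Nat.card X = f42 (2 ^ (2 * m + 1)) :=
    (Nat.card_congr e.toEquiv).trans (S1068.result hF)
  refine all_of f42Chk (k := m) ?_ h h0 hN
  have hq : 2 ≤ 2 ^ (2 * m + 1) := by
    calc 2 = 2 ^ 1 := rfl
      _ ≤ _ := Nat.pow_le_pow_right (by norm_num) (by omega)
  refine exp_lt (p := 2) (Q := 2) (d := 24) le_rfl rfl ?_ hN (by norm_num)
  rw [h]
  generalize 2 ^ (2 * m + 1) = q at hq
  exact mul_pow_le (mul_pow_le (mul_pow_le (mul_pow_le (b := 0) le_rfl (by rw [pow_zero]; omega))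
    (pow_le_add q 3)) (pow_le_sub hq 3)) (pow_le_add q 6)

end Cfsg.Agent.OddHalf.Orders
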