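import Mathlib

/-!
# Order engine: boxes for two-parameter families (helper286)

A family has groups of order `c` with `den n q * c = f n q`; `core`: if `n0 ∣ c ≤ N` then `(n, q)` is in the list `E`
of survivors, by a kernel computation over a finite box.
-/

set_option autoImplicit false

namespace Cfsg.Agent.OddHalf.Orders.Box

/-- the check of one pair -/
def ok (n0 N num den : ℕ) : Bool := num % (n0 * den) != 0 || Nat.blt (N * den) num

/-- the check of one value of `n`, all `q < Q` -/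
def row (n0 N : ℕ) (E : List (ℕ × ℕ)) (f den : ℕ → ℕ → ℕ) (e D : ℕ → ℕ) (n Q : ℕ) : Bool :=
  Nat.blt (D n * N) (Q ^ e n) &&
    (List.range Q).all fun q => Nat.blt q 2 || decide ((n, q) ∈ E) || ok n0 N (f n q) (den n q)

/-- the check of the box -/
def box (n0 N : ℕ) (E : List (ℕ × ℕ)) (f den : ℕ → ℕ → ℕ) (e D : ℕ → ℕ) (lo : ℕ) (Qs : List ℕ) : Bool :=
  (List.range Qs.length).all fun i => row n0 N E f den e D (lo + i) (Qs.getD i 0)

theorem ok_false {n0 N c num den : ℕ} (h : den * c = num) (h0 : n0 ∣ c) (hN : c ≤ N) (hok : ok n0 N num den = true) :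
    False := by
  rw [ok, Bool.or_eq_true, bne_iff_ne, Nat.blt_eq] at hok
  rcases hok with h1 | h1
  · apply h1
    obtain ⟨k, rfl⟩ := h0
    rw [← h, show den * (n0 * k) = n0 * den * k by ring]
    exact Nat.mul_mod_right _ _
  · rw [← h, Nat.mul_comm N den] at h1
    exact absurd (Nat.mul_le_mul_left den hN) (not_le.2 h1)

theorem core {n0 N c n q lo : ℕ} {E : List (ℕ × ℕ)} {f den : ℕ → ℕ → ℕ} {e D : ℕ → ℕ} {Qs : List ℕ}
    (hbox : box n0 N E f den e D lo Qs = true) (hlo : lo ≤ n) (hq : 2 ≤ q) (hc : den n q * c = f n q)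
    (hlow : q ^ e n ≤ D n * c) (hbig : ∀ n, lo + Qs.length ≤ n → D n * N < 2 ^ e n)
    (h0 : n0 ∣ c) (hN : c ≤ N) : (n, q) ∈ E := by
  have h1 : q ^ e n ≤ D n * N := hlow.trans (Nat.mul_le_mul_left _ hN)
  have h2 : n < lo + Qs.length := by
    by_contra hcon
    exact absurd (h1.trans_lt (hbig n (not_lt.1 hcon))) (not_lt.2 (Nat.pow_le_pow_left hq _))
  rw [box, List.all_eq_true] at hbox
  have h3 := hbox (n - lo) (List.mem_range.2 (by omega))
  rw [show lo + (n - lo) = n by omega, row, Bool.and_eq_true, Nat.blt_eq, List.all_eq_true] at h3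
  obtain ⟨h4, h5⟩ := h3
  have h6 : q < Qs.getD (n - lo) 0 := by
    by_contra hcon
    exact absurd (Nat.pow_le_pow_left (not_lt.1 hcon) (e n)) (not_le.2 (h1.trans_lt h4))
  have h7 := h5 q (List.mem_range.2 h6)
  rw [Bool.or_eq_true, Bool.or_eq_true, Nat.blt_eq, decide_eq_true_iff] at h7
  rcases h7 with (h7 | h7) | h7
  · omega
  · exact h7
  · exact (ok_false hc h0 hN h7).elim

/-- constant denominators bound -/
theorem big_of_mono {N D m0 : ℕ} {e : ℕ → ℕ} (he : Monotone e) (h : D * N < 2 ^ e m0) :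
    ∀ n, m0 ≤ n → D * N < 2 ^ e n := fun _ hn =>
  h.trans_le (Nat.pow_le_pow_right (by norm_num) (he hn))

end Cfsg.Agent.OddHalf.Orders.Box
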