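import Cfsg.Agent.OddHalf.Orders.Box
import Cfsg.Agent.S0292
import Cfsg.Agent.S0293
import Cfsg.Agent.S0294

/-!
# Order engine: the orthogonal groups (helper286)
-/

set_option autoImplicit false

namespace Cfsg.Agent.OddHalf.Orders.POmega

open Cfsg Cfsg.Agent.OddHalf.Orders.Box

/-- the product -/
def pr (q : ℕ) : ℕ → ℕ
  | 0 => 1
  | i + 1 => pr q i * (q ^ (2 * (i + 1)) - 1)

theorem pr_eq (q n : ℕ) : ∏ i ∈ Finset.range n, (q ^ (2 * (i + 1)) - 1) = pr q n := by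
  induction n with
  | zero => rfl
  | succ n ih => rw [Finset.prod_range_succ, ih, pr]

theorem pow_le {q : ℕ} (hq : 2 ≤ q) (k : ℕ) : q ^ k ≤ q ^ (k + 1) - 1 := by
  have h1 : 1 ≤ q ^ k := Nat.one_le_pow _ _ (by omega)
  have h2 : q ^ k + 1 ≤ q ^ (k + 1) := by
    rw [pow_succ]
    nlinarith
  omega

theorem le_pr {q : ℕ} (hq : 2 ≤ q) : ∀ n : ℕ, q ^ (n * n) ≤ pr q n
  | 0 => by simp [pr]
  | n + 1 => by
    have ih := le_pr hq n
    rw [pr, show (n + 1) * (n + 1) = n * n + (2 * n + 1) by ring, pow_add]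
    exact Nat.mul_le_mul ih (pow_le hq (2 * n + 1))

/-! ### Odd dimension -/

/-- numerator of the order -/
def fO (m q : ℕ) : ℕ := q ^ (m ^ 2) * pr q m

/-- exponent of the lower bound -/
def eO (m : ℕ) : ℕ := 2 * (m * m)

theorem lowO {q c m : ℕ} (hq : 2 ≤ q) (hc : 2 * c = fO m q) : q ^ eO m ≤ 2 * c := by
  rw [hc, fO, eO, two_mul, pow_add, pow_two m]
  exact Nat.mul_le_mul_left _ (le_pr hq m)

theorem eO_mono : Monotone eO := fun a b h => Nat.mul_le_mul_left _ (Nat.mul_le_mul h h)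

/-- **the orthogonal groups of odd dimension** with `n0 ∣ |X| ≤ N`: only the survivors `E` -/
theorem odd {n0 N : ℕ} {E : List (ℕ × ℕ)} {Qs : List ℕ}
    (hbox : box n0 N E fO (fun _ _ => 2) eO (fun _ => 2) 3 Qs = true)
    (hN2 : 2 * N < 2 ^ eO (3 + Qs.length)) {X : Type*} [Group X] (h : IsPOmegaOdd X)
    (h0 : n0 ∣ Nat.card X) (hN : Nat.card X ≤ N) :
    ∃ (F : Type) (_ : Field F) (_ : Fintype F) (m : ℕ), (m, Fintype.card F) ∈ E ∧ Odd (Fintype.card F) ∧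
      Nonempty (X ≃* POmega F (quadFormOdd m F)) := by
  obtain ⟨F, i1, i2, m, hm, hodd, ⟨g⟩⟩ := h
  have hq : 2 ≤ Fintype.card F := Fintype.one_lt_card
  rw [Nat.card_congr g.toEquiv] at h0 hN
  refine ⟨F, i1, i2, m, ?_, hodd, ⟨g⟩⟩
  have hc : 2 * Nat.card (POmega F (quadFormOdd m F)) = fO m (Fintype.card F) := by
    rw [fO, ← pr_eq]
    exact S0292.result rfl hodd m hm
  exact core (D := fun _ => 2) (den := fun _ _ => 2) hbox hm hq hc (lowO hq hc)
    (big_of_mono (D := 2) eO_mono hN2) h0 hN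

/-! ### Even dimension -/

/-- exponent of the lower bound -/
def eP (m : ℕ) : ℕ := 2 * (m * (m - 1))

theorem eP_mono : Monotone eP := fun a b h =>
  Nat.mul_le_mul_left _ (Nat.mul_le_mul h (Nat.sub_le_sub_right h 1))

/-- numerator of the order, plus type -/
def fP (m q : ℕ) : ℕ := q ^ (m * (m - 1)) * (q ^ m - 1) * pr q (m - 1)

/-- denominator of the order, plus type -/
def dP (m q : ℕ) : ℕ := Nat.gcd 4 (q ^ m - 1)

/-- numerator of the order, minus type -/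
def fM (m q : ℕ) : ℕ := q ^ (m * (m - 1)) * (q ^ m + 1) * pr q (m - 1)

/-- denominator of the order, minus type -/
def dM (m q : ℕ) : ℕ := Nat.gcd 4 (q ^ m + 1)

theorem low_aux {q m a : ℕ} (hq : 2 ≤ q) (hm : 1 ≤ m) (ha : q ^ (m - 1) ≤ a) :
    q ^ eP m ≤ q ^ (m * (m - 1)) * a * pr q (m - 1) := by
  obtain ⟨k, rfl⟩ : ∃ k, m = k + 1 := ⟨m - 1, by omega⟩
  rw [Nat.add_sub_cancel] at *
  calc q ^ eP (k + 1) = q ^ ((k + 1) * k) * q ^ k * q ^ (k * k) := by
        rw [← pow_add, ← pow_add, eP, Nat.add_sub_cancel]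
        congr 1
        ring
    _ ≤ _ := Nat.mul_le_mul (Nat.mul_le_mul_left _ ha) (le_pr hq k)

theorem lowP {q c m : ℕ} (hq : 2 ≤ q) (hm : 1 ≤ m) (hc : dP m q * c = fP m q) : q ^ eP m ≤ 4 * c := by
  have h1 : q ^ eP m ≤ dP m q * c := by
    rw [hc]
    refine low_aux hq hm ?_
    have := pow_le hq (m - 1)
    rwa [show m - 1 + 1 = m by omega] at this
  exact h1.trans (Nat.mul_le_mul_right _ (Nat.gcd_le_left _ (by norm_num)))

theorem lowM {q c m : ℕ} (hq : 2 ≤ q) (hm : 1 ≤ m) (hc : dM m q * c = fM m q) : q ^ eP m ≤ 4 * c := by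
  have h1 : q ^ eP m ≤ dM m q * c := by
    rw [hc]
    refine low_aux hq hm ?_
    exact (Nat.pow_le_pow_right (by omega) (Nat.sub_le m 1)).trans (Nat.le_succ _)
  exact h1.trans (Nat.mul_le_mul_right _ (Nat.gcd_le_left _ (by norm_num)))

/-- **the orthogonal groups of plus type** with `n0 ∣ |X| ≤ N`: only the survivors `E` -/
theorem plus {n0 N : ℕ} {E : List (ℕ × ℕ)} {Qs : List ℕ} (hbox : box n0 N E fP dP eP (fun _ => 4) 4 Qs = true)
    (hN2 : 4 * N < 2 ^ eP (4 + Qs.length)) {X : Type*} [Group X] (h : IsPOmegaPlus X)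
    (h0 : n0 ∣ Nat.card X) (hN : Nat.card X ≤ N) :
    ∃ (F : Type) (_ : Field F) (_ : Fintype F) (m : ℕ), (m, Fintype.card F) ∈ E ∧
      Nonempty (X ≃* POmega F (quadFormPlus m F)) := by
  obtain ⟨F, i1, i2, m, hm, ⟨g⟩⟩ := h
  have hq : 2 ≤ Fintype.card F := Fintype.one_lt_card
  rw [Nat.card_congr g.toEquiv] at h0 hN
  refine ⟨F, i1, i2, m, ?_, ⟨g⟩⟩
  have hc : dP m (Fintype.card F) * Nat.card (POmega F (quadFormPlus m F)) = fP m (Fintype.card F) := by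
    rw [dP, fP, ← pr_eq]
    exact S0293.result rfl m hm
  exact core (D := fun _ => 4) hbox hm hq hc (lowP hq (by omega) hc) (big_of_mono (D := 4) eP_mono hN2) h0 hN

/-- **the orthogonal groups of minus type** with `n0 ∣ |X| ≤ N`: only the survivors `E` -/
theorem minus {n0 N : ℕ} {E : List (ℕ × ℕ)} {Qs : List ℕ} (hbox : box n0 N E fM dM eP (fun _ => 4) 4 Qs = true)
    (hN2 : 4 * N < 2 ^ eP (4 + Qs.length)) {X : Type*} [Group X] (h : IsPOmegaMinus X)
    (h0 : n0 ∣ Nat.card X) (hN : Nat.card X ≤ N) :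
    ∃ (F : Type) (_ : Field F) (_ : Fintype F) (m : ℕ) (a b : F), (m, Fintype.card F) ∈ E ∧
      (∀ z₁ z₂ : F, z₁ ^ 2 + a * z₁ * z₂ + b * z₂ ^ 2 = 0 → z₁ = 0 ∧ z₂ = 0) ∧
      Nonempty (X ≃* POmega F (quadFormMinus (m - 1) F a b)) := by
  obtain ⟨F, i1, i2, m, a, b, hm, hab, ⟨g⟩⟩ := h
  have hq : 2 ≤ Fintype.card F := Fintype.one_lt_card
  rw [Nat.card_congr g.toEquiv] at h0 hN
  refine ⟨F, i1, i2, m, a, b, ?_, hab, ⟨g⟩⟩
  have hc : dM m (Fintype.card F) * Nat.card (POmega F (quadFormMinus (m - 1) F a b)) = fM m (Fintype.card F) := by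
    rw [dM, fM, ← pr_eq]
    exact S0294.result rfl m hm a b hab
  exact core (D := fun _ => 4) hbox hm hq hc (lowM hq (by omega) hc) (big_of_mono (D := 4) eP_mono hN2) h0 hN

end Cfsg.Agent.OddHalf.Orders.POmega
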