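import Cfsg.Agent.OddHalf.Orders.PSU
import Cfsg.Agent.OddHalf.Orders.POmega

/-!
# Order engine: unitary and orthogonal groups, instances (helper286)

`(n0, N) = (|Fi22|, |Fi23|/2)` and `(|U6(2)|, |Fi22|/2)`.
-/

set_option autoImplicit false
set_option maxRecDepth 100000

namespace Cfsg.Agent.OddHalf.Orders.ClsInst

open Cfsg Cfsg.Agent.OddHalf.Orders.Box

/-! ### `|Fi22|` and `|Fi23| / 2` -/

theorem u_box23 : box 64561751654400 2044735236646502400 [] PSU.f PSU.den PSU.e id 3
    [1353, 38, 9, 5, 3, 3] = true := by decide +kernel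

theorem o_box23 : box 64561751654400 2044735236646502400 [] POmega.fO (fun _ _ => 2) POmega.eO (fun _ => 2) 3
    [11, 4, 3] = true := by decide +kernel

theorem p_box23 : box 64561751654400 2044735236646502400 [] POmega.fP POmega.dP POmega.eP (fun _ => 4) 4
    [7, 3, 3] = true := by decide +kernel

theorem m_box23 : box 64561751654400 2044735236646502400 [] POmega.fM POmega.dM POmega.eP (fun _ => 4) 4
    [7, 3, 3] = true := by decide +kernel

variable {X : Type*} [Group X]

theorem psu_fi23 (h : IsPSU X) (h0 : 64561751654400 ∣ Nat.card X) (hN : Nat.card X ≤ 2044735236646502400) :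
    False := by
  obtain ⟨F, _, _, n, q, h, -⟩ := PSU.psu u_box23 (by norm_num) h h0 hN
  exact absurd h (by simp)

theorem pomegaOdd_fi23 (h : IsPOmegaOdd X) (h0 : 64561751654400 ∣ Nat.card X)
    (hN : Nat.card X ≤ 2044735236646502400) : False := by
  obtain ⟨F, _, _, n, h, -⟩ := POmega.odd o_box23 (by norm_num [POmega.eO]) h h0 hN
  exact absurd h (by simp)

theorem pomegaPlus_fi23 (h : IsPOmegaPlus X) (h0 : 64561751654400 ∣ Nat.card X)
    (hN : Nat.card X ≤ 2044735236646502400) : False := by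
  obtain ⟨F, _, _, n, h, -⟩ := POmega.plus p_box23 (by norm_num [POmega.eP]) h h0 hN
  exact absurd h (by simp)

theorem pomegaMinus_fi23 (h : IsPOmegaMinus X) (h0 : 64561751654400 ∣ Nat.card X)
    (hN : Nat.card X ≤ 2044735236646502400) : False := by
  obtain ⟨F, _, _, n, a, b, h, -⟩ := POmega.minus m_box23 (by norm_num [POmega.eP]) h h0 hN
  exact absurd h (by simp)

/-! ### `|U6(2)|` and `|Fi22| / 2` -/

theorem u_box22 : box 9196830720 32280875827200 [(6, 2)] PSU.f PSU.den PSU.e id 3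
    [215, 15, 6, 3, 3] = true := by decide +kernel

theorem o_box22 : box 9196830720 32280875827200 [] POmega.fO (fun _ _ => 2) POmega.eO (fun _ => 2) 3
    [6, 3] = true := by decide +kernel

theorem p_box22 : box 9196830720 32280875827200 [] POmega.fP POmega.dP POmega.eP (fun _ => 4) 4
    [4, 3] = true := by decide +kernel

theorem m_box22 : box 9196830720 32280875827200 [(5, 2)] POmega.fM POmega.dM POmega.eP (fun _ => 4) 4
    [4, 3] = true := by decide +kernel

/-- only `U6(2)` itself -/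
theorem psu_fi22 (h : IsPSU X) (h0 : 9196830720 ∣ Nat.card X) (hN : Nat.card X ≤ 32280875827200) :
    ∃ (F : Type) (_ : Field F) (_ : Fintype F), Fintype.card F = 2 ^ 2 ∧ Nonempty (X ≃* PSU 6 F 2) := by
  obtain ⟨F, _, _, n, q, h, hF, hX⟩ := PSU.psu u_box22 (by norm_num) h h0 hN
  rw [List.mem_singleton, Prod.mk.injEq] at h
  obtain ⟨rfl, rfl⟩ := h
  exact ⟨F, _, _, hF, hX⟩

theorem pomegaOdd_fi22 (h : IsPOmegaOdd X) (h0 : 9196830720 ∣ Nat.card X) (hN : Nat.card X ≤ 32280875827200) :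
    False := by
  obtain ⟨F, _, _, n, h, -⟩ := POmega.odd o_box22 (by norm_num [POmega.eO]) h h0 hN
  exact absurd h (by simp)

theorem pomegaPlus_fi22 (h : IsPOmegaPlus X) (h0 : 9196830720 ∣ Nat.card X) (hN : Nat.card X ≤ 32280875827200) :
    False := by
  obtain ⟨F, _, _, n, h, -⟩ := POmega.plus p_box22 (by norm_num [POmega.eP]) h h0 hN
  exact absurd h (by simp)

/-- only `Ω₁₀⁻(2)` -/
theorem pomegaMinus_fi22 (h : IsPOmegaMinus X) (h0 : 9196830720 ∣ Nat.card X)
    (hN : Nat.card X ≤ 32280875827200) :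
    ∃ (F : Type) (_ : Field F) (_ : Fintype F) (a b : F), Fintype.card F = 2 ∧
      (∀ z₁ z₂ : F, z₁ ^ 2 + a * z₁ * z₂ + b * z₂ ^ 2 = 0 → z₁ = 0 ∧ z₂ = 0) ∧
      Nonempty (X ≃* POmega F (quadFormMinus 4 F a b)) := by
  obtain ⟨F, _, _, m, a, b, h, hab, hX⟩ := POmega.minus m_box22 (by norm_num [POmega.eP]) h h0 hN
  rw [List.mem_singleton, Prod.mk.injEq] at h
  obtain ⟨rfl, hF⟩ := h
  exact ⟨F, _, _, a, b, hF, hab, hX⟩

end Cfsg.Agent.OddHalf.Orders.ClsInst
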