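import Cfsg.Agent.OddHalf.Orders.PSLFi23
import Cfsg.Agent.OddHalf.Orders.PSpFi23
import Cfsg.Agent.OddHalf.Orders.ExcFi23
import Cfsg.Agent.OddHalf.Orders.ClsInst
import Cfsg.Prelude.Def_Classification2

/-!
# Order engine: instance `(|Fi₂₂|, |Fi₂₃| / 2)` (helper907)

`spor_of_fi23`: a known simple group `X` with `|Fi₂₂| ∣ |X| ≤ |Fi₂₃| / 2` is sporadic.
-/

set_option autoImplicit false

namespace Cfsg.Agent.OddHalf.Orders

open Cfsg

universe u

variable {X : Type u} [Group X]

theorem tits_fi23 (h : Lie.IsoTits X) (h0 : 64561751654400 ∣ Nat.card X) : False := by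
  obtain ⟨e⟩ := h
  have h1 := S1068.result (K := ZMod 2) (m := 0) (by rw [ZMod.card]; norm_num)
  have h2 : Nat.card ↥(Lie.twistedF4 (ZMod 2) 1) = 35942400 := by
    rw [show (1 : ℕ) = 2 ^ 0 from rfl, h1]
    norm_num
  have hfin : Finite ↥(Lie.twistedF4 (ZMod 2) 1) := Nat.finite_of_card_ne_zero (by rw [h2]; norm_num)
  have h3 : Nat.card X ∣ 35942400 := by
    rw [Nat.card_congr e.toEquiv, ← h2]
    exact Subgroup.card_subgroup_dvd_card _
  exact absurd (h0.trans h3) (by norm_num)

theorem alt_nat_fi23 {n : ℕ} (h5 : 5 ≤ n) (h0 : 64561751654400 ∣ n.factorial / 2)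
    (hN : n.factorial / 2 ≤ 2044735236646502400) : False := by
  rcases Nat.lt_or_ge n 21 with hn | hn
  · interval_cases n <;> revert h0 <;> decide
  · have h1 : (21).factorial ≤ n.factorial := Nat.factorial_le hn
    have h2 : (21).factorial / 2 ≤ n.factorial / 2 := Nat.div_le_div_right h1
    have h3 : 2044735236646502400 < (21).factorial / 2 := by decide
    omega

/-- alternating groups -/
theorem alt_fi23 (h : IsAlternating X) (h0 : 64561751654400 ∣ Nat.card X)
    (hN : Nat.card X ≤ 2044735236646502400) : False := by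
  obtain ⟨n, hn, ⟨e⟩⟩ := h
  have : Nontrivial (Fin n) := ⟨⟨0, by omega⟩, ⟨1, by omega⟩, by simp⟩
  have h1 := Nat.card_congr e.toEquiv
  rw [nat_card_alternatingGroup, Nat.card_fin] at h1
  rw [h1] at h0 hN
  exact alt_nat_fi23 hn h0 hN

/-- **only sporadic groups** -/
theorem spor_of_fi23 (h : IsKnownSimple' X) (hna : ¬ IsMulCommutative X) (h0 : 64561751654400 ∣ Nat.card X)
    (hN : Nat.card X ≤ 2044735236646502400) : IsSporadicGroup X := by
  rcases h with h | h | h | h | h | h | h | h | h | h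
  · exfalso
    apply hna
    have h1 : Fact (Nat.card X).Prime := ⟨h⟩
    have h2 : IsCyclic X := isCyclic_of_prime_card (p := Nat.card X) rfl
    infer_instance
  · exact (alt_fi23 h h0 hN).elim
  · exact (psl_fi23 h h0 hN).elim
  · exact (psp_fi23 h h0 hN).elim
  · exact (ClsInst.psu_fi23 h h0 hN).elim
  · exact (ClsInst.pomegaOdd_fi23 h h0 hN).elim
  · exact (ClsInst.pomegaPlus_fi23 h h0 hN).elim
  · exact (ClsInst.pomegaMinus_fi23 h h0 hN).elim
  · rcases h with h | h | h | h | h | h | h | h | h | h | h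
    · exact (g2_fi23 h h0 hN).elim
    · exact (f4_fi23 h h0 hN).elim
    · exact (e6_fi23 h hN).elim
    · exact (e7_fi23 h hN).elim
    · exact (e8_fi23 h hN).elim
    · exact (e26_fi23 h hN).elim
    · exact (d4_fi23 h h0 hN).elim
    · exact (sz_fi23 h h0 hN).elim
    · exact (ree_fi23 h h0 hN).elim
    · exact (f42_fi23 h h0 hN).elim
    · exact (tits_fi23 h h0).elim
  · exact h

end Cfsg.Agent.OddHalf.Orders
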