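import Cfsg.Agent.OddHalf.Orders.Tool
import Cfsg.Agent.S0243
import Cfsg.Prelude.Def_Classical

/-!
# Order engine: `PSL_n(q)` (helper907)
-/

set_option autoImplicit false

namespace Cfsg.Agent.OddHalf.Orders

/-- the order of `GL_n(q)` -/
def gl (n q : ℕ) : ℕ := ((List.range n).map fun i => q ^ n - q ^ i).prod

/-- the denominator -/
def glDen (n q : ℕ) : ℕ := Nat.gcd n (q - 1) * (q - 1)

theorem card_psl {F : Type*} [Field F] [Fintype F] (n : ℕ) (hn : 2 ≤ n) :
    glDen n (Fintype.card F) * Nat.card (Matrix.ProjectiveSpecialLinearGroup (Fin n) F) =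
      gl n (Fintype.card F) := by
  have h := Cfsg.Agent.S0243.result (F := F) rfl n hn
  rw [Fin.prod_univ_eq_prod_range (fun i => Fintype.card F ^ n - Fintype.card F ^ i) n,
    prod_range_list] at h
  unfold glDen gl
  rw [← h, mul_assoc]

theorem le_gl {q : ℕ} (hq : 2 ≤ q) (n : ℕ) : q ^ ((n - 1) * n) ≤ gl n q := by
  unfold gl
  rw [← prod_range_list]
  calc q ^ ((n - 1) * n) = ∏ i ∈ Finset.range n, q ^ (n - 1) := by
        rw [Finset.prod_const, Finset.card_range, pow_mul]
    _ ≤ _ := by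
        apply Finset.prod_le_prod'
        intro i hi
        rw [Finset.mem_range] at hi
        obtain ⟨m, rfl⟩ := Nat.exists_eq_succ_of_ne_zero (show n ≠ 0 by omega)
        have h1 : q ^ i ≤ q ^ m := Nat.pow_le_pow_right (by omega) (by omega)
        have h2 : q ^ (m + 1) = q ^ m * q := pow_succ _ _
        have h3 : q ^ m * 2 ≤ q ^ m * q := Nat.mul_le_mul_left _ hq
        show q ^ m ≤ q ^ (m + 1) - q ^ i
        omega

/-- `q^{n(n-1)-1} ≤ n |X|` -/
theorem bound_psl {n q c : ℕ} (hq : 2 ≤ q) (hn : 2 ≤ n) (h : glDen n q * c = gl n q) :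
    q ^ ((n - 1) * n - 1) ≤ n * c := by
  have h1 := le_gl hq n
  rw [← h] at h1
  have h2 : glDen n q ≤ n * q := by
    unfold glDen
    exact Nat.mul_le_mul (Nat.gcd_le_left _ (by omega)) (by omega)
  have h3 : q ^ ((n - 1) * n) ≤ q * (n * c) := by
    calc q ^ ((n - 1) * n) ≤ glDen n q * c := h1
      _ ≤ n * q * c := Nat.mul_le_mul_right _ h2
      _ = q * (n * c) := by ring
  have h4 : (n - 1) * n = ((n - 1) * n - 1) + 1 := by
    have : 1 * 2 ≤ (n - 1) * n := Nat.mul_le_mul (by omega) hn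
    omega
  rw [h4, pow_succ, mul_comm] at h3
  exact Nat.le_of_mul_le_mul_left h3 (by omega)

end Cfsg.Agent.OddHalf.Orders
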