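import Cfsg.Agent.OddHalf.Orders.PSL

/-!
# Order engine: `PSL_n(q)`, instance `(|Fi₂₂|, |Fi₂₃| / 2)` (helper907)
-/

set_option autoImplicit false

namespace Cfsg.Agent.OddHalf.Orders

open Cfsg

theorem psl_box {n q c Q : ℕ} (hq : 2 ≤ q) (hn : 2 ≤ n) (h : glDen n q * c = gl n q)
    (h0 : 64561751654400 ∣ c) (hN : c ≤ 2044735236646502400)
    (hQ : n * 2044735236646502400 < Q ^ ((n - 1) * n - 1))
    (hall : allEx 64561751654400 2044735236646502400 (gl n) (glDen n) Q = true) : False :=
  no hall hq (lt_of_pow (bound_psl hq hn h) hN hQ) h h0 hN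

theorem chk3 : allEx 64561751654400 2044735236646502400 (gl 3) (glDen 3) 5750 = true := by
  decide +kernel

theorem chk4 : allEx 64561751654400 2044735236646502400 (gl 4) (glDen 4) 60 = true := by
  decide +kernel

theorem chk5 : allEx 64561751654400 2044735236646502400 (gl 5) (glDen 5) 12 = true := by
  decide +kernel

theorem chk6 : allEx 64561751654400 2044735236646502400 (gl 6) (glDen 6) 6 = true := by
  decide +kernel

theorem chk7 : allEx 64561751654400 2044735236646502400 (gl 7) (glDen 7) 4 = true := by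
  decide +kernel

theorem chk8 : allEx 64561751654400 2044735236646502400 (gl 8) (glDen 8) 3 = true := by
  decide +kernel

theorem two_pow_lt {n : ℕ} (hn : 9 ≤ n) : n * 2044735236646502400 < 2 ^ ((n - 1) * n - 1) := by
  have h1 : n < 2 ^ n := Nat.lt_two_pow_self
  have h2 : 2044735236646502400 < 2 ^ 61 := by norm_num
  have h3 : n + 61 ≤ (n - 1) * n - 1 := by
    obtain ⟨m, rfl⟩ := Nat.exists_eq_add_of_le hn
    have : (9 + m - 1) * (9 + m) = 72 + 17 * m + m * m := by
      have : 9 + m - 1 = 8 + m := by omega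
      rw [this]; ring
    rw [this]
    have : 0 ≤ m * m := Nat.zero_le _
    omega
  calc n * 2044735236646502400 < 2 ^ n * 2 ^ 61 := Nat.mul_lt_mul'' h1 h2
    _ = 2 ^ (n + 61) := (pow_add _ _ _).symm
    _ ≤ 2 ^ ((n - 1) * n - 1) := Nat.pow_le_pow_right (by norm_num) h3

theorem psl_three {q n c : ℕ} (hq : 2 ≤ q) (hn : 3 ≤ n) (h : glDen n q * c = gl n q)
    (h0 : 64561751654400 ∣ c) (hN : c ≤ 2044735236646502400) : False := by
  by_cases h9 : 9 ≤ n
  · have h1 := lt_of_pow (bound_psl hq (by omega) h) hN (two_pow_lt h9)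
    omega
  · have : n = 3 ∨ n = 4 ∨ n = 5 ∨ n = 6 ∨ n = 7 ∨ n = 8 := by omega
    rcases this with rfl | rfl | rfl | rfl | rfl | rfl
    · exact psl_box hq (by norm_num) h h0 hN (by norm_num) chk3
    · exact psl_box hq (by norm_num) h h0 hN (by norm_num) chk4
    · exact psl_box hq (by norm_num) h h0 hN (by norm_num) chk5
    · exact psl_box hq (by norm_num) h h0 hN (by norm_num) chk6
    · exact psl_box hq (by norm_num) h h0 hN (by norm_num) chk7
    · exact psl_box hq (by norm_num) h h0 hN (by norm_num) chk8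

/-! ### `PSL_2(q)` -/

theorem gl_two {q c : ℕ} (hq : 2 ≤ q) (h : glDen 2 q * c = gl 2 q) :
    Nat.gcd 2 (q - 1) * c = q * ((q - 1) * (q + 1)) := by
  obtain ⟨m, rfl⟩ := Nat.exists_eq_add_of_le hq
  have h1 : gl 2 (2 + m) = (m + 1) * ((2 + m) * ((m + 1) * (m + 3))) := by
    have e : gl 2 (2 + m) = ((2 + m) ^ 2 - 1) * ((2 + m) ^ 2 - (2 + m)) := by
      simp [gl, List.range_succ]
    have e1 : (2 + m) ^ 2 - 1 = (m + 1) * (m + 3) := by
      have : (2 + m) ^ 2 = (m + 1) * (m + 3) + 1 := by ring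
      omega
    have e2 : (2 + m) ^ 2 - (2 + m) = (m + 1) * (2 + m) := by
      have : (2 + m) ^ 2 = (m + 1) * (2 + m) + (2 + m) := by ring
      omega
    rw [e, e1, e2]; ring
  have h2 : glDen 2 (2 + m) = Nat.gcd 2 (2 + m - 1) * (m + 1) := by
    unfold glDen
    have : 2 + m - 1 = m + 1 := by omega
    rw [this]
  rw [h1, h2] at h
  have h3 : (m + 1) * (Nat.gcd 2 (2 + m - 1) * c) = (m + 1) * ((2 + m) * ((m + 1) * (m + 3))) := by
    rw [← h]; ring
  have h4 := Nat.eq_of_mul_eq_mul_left (by omega) h3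
  rw [h4]
  have : 2 + m - 1 = m + 1 := by omega
  rw [this, show 2 + m + 1 = m + 3 by omega]

theorem lt_two {q c : ℕ} (hq : 2 ≤ q) (h : glDen 2 q * c = gl 2 q)
    (hN : c ≤ 2044735236646502400) : q < 1600001 := by
  have h1 := gl_two hq h
  have h2 : Nat.gcd 2 (q - 1) ≤ 2 := Nat.gcd_le_left _ (by norm_num)
  have h3 : q * ((q - 1) * (q + 1)) ≤ 4089470473293004800 := by
    rw [← h1]
    calc Nat.gcd 2 (q - 1) * c ≤ 2 * 2044735236646502400 := Nat.mul_le_mul h2 hN
      _ = 4089470473293004800 := by norm_num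
  by_contra hlt
  push Not at hlt
  have h4 : 1600001 * (1600000 * 1600002) ≤ q * ((q - 1) * (q + 1)) :=
    Nat.mul_le_mul hlt (Nat.mul_le_mul (by omega) (by omega))
  have h5 : 4089470473293004800 < 1600001 * (1600000 * 1600002) := by norm_num
  omega

theorem chkE : ((List.range 22).all fun k => ex 64561751654400 2044735236646502400
    (fun k => gl 2 (2 ^ (k + 1))) (fun k => glDen 2 (2 ^ (k + 1))) k) = true := by
  decide +kernel

theorem chkP : ((List.range 13).all fun k => ex 64561751654400 2044735236646502400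
    (fun k => gl 2 (131072 * (k + 1) + 1)) (fun k => glDen 2 (131072 * (k + 1) + 1)) k) = true := by
  decide +kernel

theorem chkM : ((List.range 13).all fun k => ex 64561751654400 2044735236646502400
    (fun k => gl 2 (131072 * (k + 1) - 1)) (fun k => glDen 2 (131072 * (k + 1) - 1)) k) = true := by
  decide +kernel

theorem no' {n0 N : ℕ} {f den : ℕ → ℕ} {Q k c : ℕ}
    (hall : ((List.range Q).all fun k => ex n0 N f den k) = true)
    (hQ : k < Q) (h : den k * c = f k) (h0 : n0 ∣ c) (hN : c ≤ N) : False := by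
  rw [List.all_eq_true] at hall
  have h1 := hall k (List.mem_range.2 hQ)
  rw [ex_eq_false h h0 hN] at h1
  exact absurd h1 (by decide)

theorem psl_two {q c : ℕ} (hq : 2 ≤ q) (hpp : Even q → ∃ k, q = 2 ^ k) (h : glDen 2 q * c = gl 2 q)
    (h0 : 64561751654400 ∣ c) (hN : c ≤ 2044735236646502400) : False := by
  have hlt := lt_two hq h hN
  rcases Nat.even_or_odd q with he | ho
  · obtain ⟨k, rfl⟩ := hpp he
    have hk0 : k ≠ 0 := by
      rintro rfl
      omega
    obtain ⟨j, rfl⟩ := Nat.exists_eq_succ_of_ne_zero hk0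
    have hj : j < 22 := by
      by_contra hj
      push Not at hj
      have h1 : 2 ^ 22 ≤ 2 ^ j.succ := Nat.pow_le_pow_right (by norm_num) (by omega)
      have h2 : (2 : ℕ) ^ 22 = 4194304 := by norm_num
      omega
    exact no' chkE hj h h0 hN
  · have h1 := gl_two hq h
    have h2 : Nat.gcd 2 (q - 1) = 2 := by
      apply Nat.gcd_eq_left
      obtain ⟨m, rfl⟩ := ho
      exact ⟨m, by omega⟩
    rw [h2] at h1
    obtain ⟨m, rfl⟩ := ho
    have h3 : c = (2 * m + 1) * (2 * (m * (m + 1))) := by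
      have e1 : 2 * m + 1 - 1 = 2 * m := by omega
      rw [e1] at h1
      have : 2 * c = 2 * ((2 * m + 1) * (2 * (m * (m + 1)))) := by rw [h1]; ring
      exact Nat.eq_of_mul_eq_mul_left (by norm_num) this
    have h4 : 2 ^ 17 ∣ (2 * m + 1) * (2 * (m * (m + 1))) := by
      rw [← h3]; exact (by norm_num : 2 ^ 17 ∣ 64561751654400).trans h0
    have h5 : 2 ^ 17 ∣ 2 * (m * (m + 1)) := by
      apply Nat.Coprime.dvd_of_dvd_mul_left _ h4
      apply Nat.Coprime.pow_left
      rw [Nat.coprime_two_left]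
      exact ⟨m, rfl⟩
    have h6 : 2 ^ 16 ∣ m * (m + 1) := by
      have : 2 * 2 ^ 16 ∣ 2 * (m * (m + 1)) := by
        have e : 2 * 2 ^ 16 = 2 ^ 17 := by norm_num
        rw [e]; exact h5
      exact Nat.dvd_of_mul_dvd_mul_left (by norm_num) this
    have h7 : 2 ^ 16 ∣ m ∨ 2 ^ 16 ∣ m + 1 := by
      rcases Nat.even_or_odd m with he | ho
      · left
        apply Nat.Coprime.dvd_of_dvd_mul_right _ h6
        apply Nat.Coprime.pow_left
        rw [Nat.coprime_two_left]
        exact he.add_one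
      · right
        apply Nat.Coprime.dvd_of_dvd_mul_left _ h6
        apply Nat.Coprime.pow_left
        rw [Nat.coprime_two_left]
        exact ho
    rcases h7 with ⟨k, rfl⟩ | ⟨k, hk⟩
    · have hk0 : k ≠ 0 := by
        rintro rfl
        omega
      obtain ⟨j, rfl⟩ := Nat.exists_eq_succ_of_ne_zero hk0
      have e : 2 * (2 ^ 16 * j.succ) + 1 = 131072 * (j + 1) + 1 := by
        rw [Nat.succ_eq_add_one]; ring
      rw [e] at h
      exact no' chkP (by omega) h h0 hN
    · have hk0 : k ≠ 0 := by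
        rintro rfl
        omega
      obtain ⟨j, rfl⟩ := Nat.exists_eq_succ_of_ne_zero hk0
      have e : 2 * m + 1 = 131072 * (j + 1) - 1 := by
        rw [Nat.succ_eq_add_one] at hk
        omega
      rw [e] at h
      exact no' chkM (by omega) h h0 hN

theorem psl_fi23 {X : Type*} [Group X] (hX : IsPSL X) (h0 : 64561751654400 ∣ Nat.card X)
    (hN : Nat.card X ≤ 2044735236646502400) : False := by
  obtain ⟨F, _, _, n, hn, h4, ⟨e⟩⟩ := hX
  have h := card_psl (F := F) n hn
  rw [← Nat.card_congr e.toEquiv] at h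
  have hq : 2 ≤ Fintype.card F := Fintype.one_lt_card
  by_cases h2 : n = 2
  · subst h2
    refine psl_two hq (fun he => ?_) h h0 hN
    obtain ⟨p, hp⟩ := CharP.exists F
    obtain ⟨k, hp', hk⟩ := FiniteField.card F p
    have h2 : 2 ∣ p := by
      have : 2 ∣ p ^ (k : ℕ) := by rw [← hk]; exact he.two_dvd
      exact Nat.prime_two.dvd_of_dvd_pow this
    have : p = 2 := ((Nat.prime_dvd_prime_iff_eq Nat.prime_two hp').1 h2).symm
    exact ⟨k, by rw [hk, this]⟩
  · exact psl_three hq (by omega) h h0 hN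

end Cfsg.Agent.OddHalf.Orders
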