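import Cfsg.Agent.OddHalf.Orders.Box
import Cfsg.Agent.S0280

/-!
# Order engine: the unitary groups (helper286)
-/

set_option autoImplicit false

namespace Cfsg.Agent.OddHalf.Orders.PSU

open Cfsg Cfsg.Agent.OddHalf.Orders.Box

/-- the product -/
def pr (q : ℕ) : ℕ → ℕ
  | 0 => 1
  | i + 1 => pr q i * (if Nat.beq (i % 2) 0 then q ^ (i + 1) + 1 else q ^ (i + 1) - 1)

theorem pr_eq (q n : ℕ) :
    ∏ i ∈ Finset.range n, (if Even i then q ^ (i + 1) + 1 else q ^ (i + 1) - 1) = pr q n := by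
  induction n with
  | zero => rfl
  | succ n ih =>
    rw [Finset.prod_range_succ, ih, pr]
    congr 1
    by_cases h : Even n
    · rw [if_pos h, if_pos]
      rw [Nat.beq_eq]
      exact Nat.even_iff.1 h
    · rw [if_neg h, if_neg]
      rw [Nat.beq_eq, ← Nat.even_iff]
      exact h

/-- numerator of the order -/
def f (n q : ℕ) : ℕ := q ^ (n * (n - 1) / 2) * pr q n

/-- denominator of the order -/
def den (n q : ℕ) : ℕ := Nat.gcd n (q + 1) * (q + 1)

/-- exponent of the lower bound -/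
def e (n : ℕ) : ℕ := n * (n - 1)

theorem le_pr {q : ℕ} (hq : 2 ≤ q) : ∀ n : ℕ, (q + 1) * q ^ (n * (n + 1) / 2) ≤ pr q (n + 1)
  | 0 => by simp [pr]
  | n + 1 => by
    have ih := le_pr hq n
    rw [pr]
    have h1 : (n + 1) * (n + 1 + 1) / 2 = n * (n + 1) / 2 + (n + 1) := by
      have : (n + 1) * (n + 1 + 1) = n * (n + 1) + (n + 1) * 2 := by ring
      rw [this, Nat.add_mul_div_right _ _ (by norm_num)]
    rw [h1, pow_add, ← mul_assoc]
    apply Nat.mul_le_mul ih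
    have h2 : q ^ (n + 1) + 1 ≤ q ^ (n + 1 + 1) := by
      rw [pow_succ q (n + 1)]
      have : 1 ≤ q ^ (n + 1) := Nat.one_le_pow _ _ (by omega)
      nlinarith
    split_ifs <;> omega

theorem low {q c n : ℕ} (hq : 2 ≤ q) (hn : 2 ≤ n) (hc : den n q * c = f n q) : q ^ e n ≤ n * c := by
  obtain ⟨m, rfl⟩ : ∃ m, n = m + 1 := ⟨n - 1, by omega⟩
  have h1 := le_pr hq m
  have h2 : (q + 1) * q ^ e (m + 1) ≤ f (m + 1) q := by
    rw [f, e]
    have h3 : (m + 1) * (m + 1 - 1) = (m + 1) * (m + 1 - 1) / 2 + m * (m + 1) / 2 := by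
      rw [Nat.add_sub_cancel, mul_comm (m + 1) m, ← two_mul]
      exact (Nat.two_mul_div_two_of_even (Nat.even_mul_succ_self m)).symm
    rw [h3, pow_add]
    calc (q + 1) * (q ^ ((m + 1) * (m + 1 - 1) / 2) * q ^ (m * (m + 1) / 2))
        = q ^ ((m + 1) * (m + 1 - 1) / 2) * ((q + 1) * q ^ (m * (m + 1) / 2)) := by ring
      _ ≤ _ := by
        rw [← h3]
        exact Nat.mul_le_mul_left _ h1
  rw [← hc, den] at h2
  have h3 : Nat.gcd (m + 1) (q + 1) ≤ m + 1 := Nat.gcd_le_left _ (by omega)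
  have h4 : (q + 1) * q ^ e (m + 1) ≤ (q + 1) * ((m + 1) * c) :=
    h2.trans (by
      rw [mul_comm (Nat.gcd _ _) (q + 1), mul_assoc]
      exact Nat.mul_le_mul_left _ (Nat.mul_le_mul_right _ h3))
  exact Nat.le_of_mul_le_mul_left h4 (by omega)

theorem big {N m : ℕ} (h : N < 2 ^ (m * m)) (n : ℕ) (hn : m + 1 ≤ n) : n * N < 2 ^ e n := by
  have h1 : n ≤ 2 ^ (n - 1) := by
    have := Nat.lt_two_pow_self (n := n - 1)
    omega
  calc n * N < n * 2 ^ (m * m) := Nat.mul_lt_mul_of_pos_left h (by omega)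
    _ ≤ 2 ^ (n - 1) * 2 ^ (m * m) := Nat.mul_le_mul_right _ h1
    _ = 2 ^ (n - 1 + m * m) := (pow_add _ _ _).symm
    _ ≤ 2 ^ e n := by
      apply Nat.pow_le_pow_right (by norm_num)
      rw [e]
      obtain ⟨k, rfl⟩ : ∃ k, n = m + 1 + k := ⟨n - (m + 1), by omega⟩
      rw [show m + 1 + k - 1 = m + k by omega]
      nlinarith

/-- **the unitary groups** with `n0 ∣ |X| ≤ N`: only the survivors `E` -/
theorem psu {n0 N : ℕ} {E : List (ℕ × ℕ)} {Qs : List ℕ} (hbox : box n0 N E f den e id 3 Qs = true)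
    (hN2 : N < 2 ^ ((2 + Qs.length) * (2 + Qs.length))) {X : Type*} [Group X] (h : IsPSU X)
    (h0 : n0 ∣ Nat.card X) (hN : Nat.card X ≤ N) :
    ∃ (F : Type) (_ : Field F) (_ : Fintype F) (n q : ℕ), (n, q) ∈ E ∧ Fintype.card F = q ^ 2 ∧
      Nonempty (X ≃* PSU n F q) := by
  obtain ⟨F, i1, i2, n, q, hF, hn, -, ⟨g⟩⟩ := h
  have hq : 2 ≤ q := by
    have h1 : 1 < q ^ 2 := hF ▸ Fintype.one_lt_card
    by_contra hcon
    interval_cases q <;> norm_num at h1
  rw [Nat.card_congr g.toEquiv] at h0 hN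
  refine ⟨F, i1, i2, n, q, ?_, hF, ⟨g⟩⟩
  have hc : den n q * Nat.card (PSU n F q) = f n q := by
    rw [den, f, mul_assoc, ← pr_eq]
    exact S0280.result hF n (by omega)
  exact core hbox hn hq hc (low hq (by omega) hc) (fun k hk => big hN2 k (by omega)) h0 hN

end Cfsg.Agent.OddHalf.Orders.PSU
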