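import Mathlib

/-!
# Order engine (helper907)

`c · den q = f q`, `n0 ∣ c`, `c ≤ N` is excluded for all `q < Q` by a Boolean check; the bound `q < Q` comes from
`q^d ≤ f q`.
-/

set_option autoImplicit false

namespace Cfsg.Agent.OddHalf.Orders

/-- `q` is excluded -/
def ex (n0 N : ℕ) (f den : ℕ → ℕ) (q : ℕ) : Bool :=
  f q % (n0 * den q) != 0 || decide (N * den q < f q)

/-- every `q` with `2 ≤ q < Q` is excluded -/
def allEx (n0 N : ℕ) (f den : ℕ → ℕ) (Q : ℕ) : Bool :=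
  (List.range Q).all fun q => decide (q < 2) || ex n0 N f den q

theorem ex_eq_false {n0 N : ℕ} {f den : ℕ → ℕ} {q c : ℕ} (h : den q * c = f q) (h0 : n0 ∣ c)
    (hN : c ≤ N) : ex n0 N f den q = false := by
  unfold ex
  rw [Bool.or_eq_false_iff]
  constructor
  · have h1 : n0 * den q ∣ f q := by
      rw [← h, mul_comm n0]
      exact Nat.mul_dvd_mul_left _ h0
    simp [Nat.mod_eq_zero_of_dvd h1]
  · rw [decide_eq_false_iff_not, not_lt, ← h, mul_comm (den q)]
    exact Nat.mul_le_mul_right _ hN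

theorem no {n0 N : ℕ} {f den : ℕ → ℕ} {Q q c : ℕ} (hall : allEx n0 N f den Q = true) (h2 : 2 ≤ q)
    (hQ : q < Q) (h : den q * c = f q) (h0 : n0 ∣ c) (hN : c ≤ N) : False := by
  unfold allEx at hall
  rw [List.all_eq_true] at hall
  have h1 := hall q (List.mem_range.2 hQ)
  rw [ex_eq_false h h0 hN, Bool.or_false, decide_eq_true_eq] at h1
  omega

/-- the bound -/
theorem lt_of_pow {q Q d D N c : ℕ} (h1 : q ^ d ≤ D * c) (h3 : c ≤ N) (h4 : D * N < Q ^ d) : q < Q := by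
  by_contra h
  push Not at h
  have h5 : Q ^ d ≤ q ^ d := Nat.pow_le_pow_left h d
  have h6 : D * c ≤ D * N := Nat.mul_le_mul_left _ h3
  omega

theorem pow_le_sub {q : ℕ} (hq : 2 ≤ q) (d : ℕ) : q ^ d ≤ q ^ (d + 1) - 1 := by
  have h1 : 1 ≤ q ^ d := Nat.one_le_pow _ _ (by omega)
  have h2 : q ^ (d + 1) = q ^ d * q := pow_succ _ _
  have h3 : q ^ d * 2 ≤ q ^ d * q := Nat.mul_le_mul_left _ hq
  omega

theorem pow_le_add (q d : ℕ) : q ^ d ≤ q ^ d + 1 := Nat.le_succ _

/-- `∏_{i < m} (q^{2(i+1)} - 1) ≥ q^{m²}` -/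
theorem pow_le_prod {q : ℕ} (hq : 2 ≤ q) (m : ℕ) :
    q ^ (m ^ 2) ≤ ∏ i ∈ Finset.range m, (q ^ (2 * (i + 1)) - 1) := by
  induction m with
  | zero => simp
  | succ m ih =>
    rw [Finset.prod_range_succ]
    have h1 : q ^ (2 * m + 1) ≤ q ^ (2 * (m + 1)) - 1 := pow_le_sub hq (2 * m + 1)
    have h2 : (m + 1) ^ 2 = m ^ 2 + (2 * m + 1) := by ring
    rw [h2, pow_add]
    exact Nat.mul_le_mul ih h1

/-- products over `Finset.range` as list products -/
theorem prod_range_list (f : ℕ → ℕ) (n : ℕ) :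
    ∏ i ∈ Finset.range n, f i = ((List.range n).map f).prod := by
  induction n with
  | zero => simp
  | succ n ih => rw [Finset.prod_range_succ, ih, List.range_succ, List.map_append, List.prod_append]; simp

end Cfsg.Agent.OddHalf.Orders
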